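import Groth.Agent.Lib.QSecGen13.Generic
import Groth.Agent.Lib.FibreFlat.OpenScheme
import Groth.Agent.Lib.GrpdQuot.GenInvariant
import Groth.Agent.Lib.QuasiFlat.ProCons
import Groth.Agent.Lib.AlgSp.FppfDescent
import Groth.Agent.Lib.SubtrLim.LocClosed

/-!
# Flatness loci on reduced schemes and their saturations
-/

set_option autoImplicit false
set_option linter.all false
set_option backward.isDefEq.respectTransparency false

universe u

open CategoryTheory CategoryTheory.Limits AlgebraicGeometry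

noncomputable section

namespace GrothLib.FlatStab13

open GrothLib.GrpdQuot GrothLib.QSecGen13

/-- A morphism of finite presentation to a reduced scheme is flat over a dense open set. -/
theorem exists_dense_open_flat {F X : Scheme.{u}} (σ : F ⟶ X) [IsReduced X]
    [LocallyOfFinitePresentation σ] [QuasiCompact σ] [CompactSpace F] :
    ∃ O : X.Opens, Dense (O : Set X) ∧ Flat (σ ∣_ O) := by
  let N : Set F := {y | (σ.stalkMap y).hom.Flat}ᶜ
  have hop : IsOpen {y : F | (σ.stalkMap y).hom.Flat} := FibreFlat.isOpen_flat_stalkMap σ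
  have hNc : IsClosed N := hop.isClosed_compl
  have hN : ProCons.IsProConstructible (σ '' N) := Constr.isProConstructible_image σ (SubtrLim.isProConstructible_of_isClosed hNc)
  let O : X.Opens := ⟨(closure (σ '' N))ᶜ, isClosed_closure.isOpen_compl⟩
  refine ⟨O, ?_, ?_⟩
  · rw [dense_iff_inter_open]
    rintro U hU ⟨x, hx⟩
    obtain ⟨m, hm, hmax⟩ := exists_gen_specializes x
    refine ⟨m, hm.mem_open hU hx, fun hmc => ?_⟩
    obtain ⟨_, ⟨y, hy, rfl⟩, hz⟩ := QuasiFlat.exists_specializes_of_mem_closure hN hmc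
    refine hy ?_
    exact flat_of_isField (isField_stalk_of_generic (σ y) (by rw [hmax _ hz]; exact hmax)) _
  · refine Flat.of_stalkMap _ fun y => ?_
    have h : (σ.stalkMap y.1).hom.Flat := by
      by_contra hc
      exact y.2 (subset_closure ⟨y.1, hc, rfl⟩)
    exact (RingHom.Flat.respectsIso.arrow_mk_iso_iff (morphismRestrictStalkMap σ O y)).2 h

variable {S : Scheme.{u}} (G : Grpd.GroupoidScheme S)

/-- Flatness over an open set spreads to its saturation, for a morphism whose base changes along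
source and target agree. -/
theorem flat_satOpen [Flat G.s] [LocallyOfFinitePresentation G.s] {F P : Scheme.{u}} (σ : F ⟶ G.U)
    {a b : P ⟶ F} {p : P ⟶ G.R} (sqs : IsPullback a p σ G.s) (sqt : IsPullback b p σ G.t)
    (O : G.U.Opens) (h : Flat (σ ∣_ O)) : Flat (σ ∣_ satOpen G O) := by
  haveI := flat_t G
  haveI := locallyOfFinitePresentation_t G
  let W := satOpen G O
  let R₁ := G.s ⁻¹ᵁ O
  have hle : R₁ ≤ G.t ⁻¹ᵁ W := fun r hr => ⟨r, hr, rfl⟩
  let c : (R₁ : Scheme.{u}) ⟶ (W : Scheme.{u}) := G.t.resLE W R₁ hle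
  have hc : c ≫ W.ι = R₁.ι ≫ G.t := Scheme.Hom.resLE_comp_ι _ _
  haveI : Surjective c := ⟨fun w => by
    obtain ⟨r, hr, hrw⟩ := w.2
    refine ⟨⟨r, hr⟩, Subtype.ext ?_⟩
    have := congrArg (fun φ : (R₁ : Scheme.{u}) ⟶ G.U => φ ⟨r, hr⟩) hc
    exact this.trans hrw⟩
  haveI : Flat c := by show Flat (G.t.resLE W R₁ hle); infer_instance
  haveI : LocallyOfFinitePresentation c := by
    show LocallyOfFinitePresentation (G.t.resLE W R₁ hle); infer_instance
  have sqK := IsPullback.of_hasPullback p R₁.ι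
  have Kt := sqK.paste_horiz sqt
  have Ks := sqK.paste_horiz sqs
  have hsO : (G.s ∣_ O) ≫ O.ι = R₁.ι ≫ G.s := morphismRestrict_ι _ _
  have mO := (isPullback_morphismRestrict σ O).flip
  let aS := mO.lift _ (pullback.snd p R₁.ι ≫ (G.s ∣_ O)) (Ks.w.trans (by rw [Category.assoc, hsO]))
  have sqS : IsPullback aS (pullback.snd p R₁.ι) (σ ∣_ O) (G.s ∣_ O) := by
    refine IsPullback.of_right ?_ (mO.lift_snd _ _ _) mO
    rw [mO.lift_fst, hsO]
    exact Ks
  have hl : Flat (pullback.snd p R₁.ι) := MorphismProperty.of_isPullback sqS h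
  have mW := (isPullback_morphismRestrict σ W).flip
  let aT := mW.lift _ (pullback.snd p R₁.ι ≫ c) (Kt.w.trans (by rw [Category.assoc, hc]))
  have sqT : IsPullback aT (pullback.snd p R₁.ι) (σ ∣_ W) c := by
    refine IsPullback.of_right ?_ (mW.lift_snd _ _ _) mW
    rw [mW.lift_fst, hc]
    exact Kt
  exact AlgSp.fppfDescends_flat _ c _ _ sqT inferInstance inferInstance inferInstance hl

end GrothLib.FlatStab13
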