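import Groth.Agent.S4089
import Groth.Agent.Lib.GrpdQuot.EquivRel
import Mathlib.AlgebraicGeometry.Sites.Fpqc

/-!
# A generic quotient for a groupoid whose arrows factor through an equivalence relation
-/

set_option autoImplicit false
set_option linter.all false
set_option backward.isDefEq.respectTransparency false
set_option maxHeartbeats 800000

universe u

open CategoryTheory CategoryTheory.Limits AlgebraicGeometry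

noncomputable section

namespace GrothLib.FlatStab13

open GrothLib.GrpdQuot

variable {S : Scheme.{u}} (Γ : Grpd.GroupoidScheme S) {Y : Scheme.{u}} (ψ : Γ.R ⟶ Y) [Flat ψ]
  [LocallyOfFinitePresentation ψ] [Surjective ψ] {t₁ s₁ : Y ⟶ Γ.U} (ht : ψ ≫ t₁ = Γ.t) (hs : ψ ≫ s₁ = Γ.s)
  (hst : t₁ ≫ Γ.pU = s₁ ≫ Γ.pU)
  (hmono : ∀ {T : Scheme.{u}} (a b : T ⟶ Y), a ≫ t₁ = b ≫ t₁ → a ≫ s₁ = b ≫ s₁ → a = b)

include ht hs in
theorem exists_rel_id : ∃ e : Γ.U ⟶ Y, e ≫ s₁ = 𝟙 Γ.U ∧ e ≫ t₁ = 𝟙 Γ.U :=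
  ⟨Γ.e ≫ ψ, by rw [Category.assoc, hs, Γ.e_s], by rw [Category.assoc, ht, Γ.e_t]⟩

include ht hs hmono in
theorem exists_rel_inv : ∃ i : Y ⟶ Y, i ≫ s₁ = t₁ ∧ i ≫ t₁ = s₁ := by
  have hw : ∀ {T : Scheme.{u}} (g₁ g₂ : T ⟶ Γ.R), g₁ ≫ ψ = g₂ ≫ ψ →
      g₁ ≫ Γ.i ≫ ψ = g₂ ≫ Γ.i ≫ ψ := fun g₁ g₂ h => by
    apply hmono
    · simp only [Category.assoc, ht, Γ.i_t]
      rw [← hs, reassoc_of% h]
    · simp only [Category.assoc, hs, Γ.i_s]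
      rw [← ht, reassoc_of% h]
  refine ⟨EffectiveEpi.desc ψ (Γ.i ≫ ψ) fun g₁ g₂ h => hw g₁ g₂ h, ?_, ?_⟩
  · rw [← cancel_epi ψ, EffectiveEpi.fac_assoc, ht, Category.assoc, hs, Γ.i_s]
  · rw [← cancel_epi ψ, EffectiveEpi.fac_assoc, hs, Category.assoc, ht, Γ.i_t]

include ht hs hmono in
theorem exists_rel_comp : ∃ c : pullback s₁ t₁ ⟶ Y,
    c ≫ s₁ = pullback.snd s₁ t₁ ≫ s₁ ∧ c ≫ t₁ = pullback.fst s₁ t₁ ≫ t₁ := by
  let q₁ : pullback (pullback.fst s₁ t₁) ψ ⟶ pullback s₁ t₁ := pullback.fst _ _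
  let q₂ : pullback (q₁ ≫ pullback.snd s₁ t₁) ψ ⟶ pullback (pullback.fst s₁ t₁) ψ := pullback.fst _ _
  let q := q₂ ≫ q₁
  let α := q₂ ≫ pullback.snd (pullback.fst s₁ t₁) ψ
  let β := pullback.snd (q₁ ≫ pullback.snd s₁ t₁) ψ
  haveI : Flat q := inferInstance
  haveI : LocallyOfFinitePresentation q := inferInstance
  haveI : Surjective q := inferInstance
  have hα : α ≫ ψ = q ≫ pullback.fst s₁ t₁ := by
    simp only [α, q, q₁, Category.assoc, pullback.condition]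
  have hβ : β ≫ ψ = q ≫ pullback.snd s₁ t₁ := by
    simp only [β, q, Category.assoc]
    exact pullback.condition.symm
  have hαβ : α ≫ Γ.s = β ≫ Γ.t := by
    rw [← hs, ← ht, reassoc_of% hα, reassoc_of% hβ, pullback.condition]
  let γ := pullback.lift α β hαβ ≫ Γ.c
  have hγs : γ ≫ ψ ≫ s₁ = q ≫ pullback.snd s₁ t₁ ≫ s₁ := by
    rw [hs, Γ.comp_s, ← hs, reassoc_of% hβ]
  have hγt : γ ≫ ψ ≫ t₁ = q ≫ pullback.fst s₁ t₁ ≫ t₁ := by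
    rw [ht, Γ.comp_t, ← ht, reassoc_of% hα]
  have hw : ∀ {T : Scheme.{u}} (g₁ g₂ : T ⟶ pullback (q₁ ≫ pullback.snd s₁ t₁) ψ), g₁ ≫ q = g₂ ≫ q →
      g₁ ≫ γ ≫ ψ = g₂ ≫ γ ≫ ψ := fun g₁ g₂ h => by
    apply hmono
    · simp only [Category.assoc, hγt]
      rw [reassoc_of% h]
    · simp only [Category.assoc, hγs]
      rw [reassoc_of% h]
  refine ⟨EffectiveEpi.desc q (γ ≫ ψ) fun g₁ g₂ h => hw g₁ g₂ h, ?_, ?_⟩
  · rw [← cancel_epi q, EffectiveEpi.fac_assoc, Category.assoc, hγs]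
  · rw [← cancel_epi q, EffectiveEpi.fac_assoc, Category.assoc, hγt]

include ht hs hst hmono in
/-- The quotient over a dense saturated open set. -/
theorem exists_quotient [IsNoetherian S] [Flat s₁] [LocallyOfFiniteType s₁] [QuasiCompact s₁]
    [LocallyOfFiniteType Γ.pU] [QuasiCompact Γ.pU] :
    ∃ (W : Γ.U.Opens) (hW : Γ.t ⁻¹ᵁ W = Γ.s ⁻¹ᵁ W), Dense (W : Set Γ.U) ∧
      ∃ (V : Scheme.{u}) (p : (W : Scheme.{u}) ⟶ V)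
        (w : Γ.t.resLE W (Γ.s ⁻¹ᵁ W) hW.ge ≫ p = (Γ.s ∣_ W) ≫ p) (q : V ⟶ S),
        Nonempty (IsColimit (Cofork.ofπ p w)) ∧ p ≫ q = W.ι ≫ Γ.pU ∧
        Surjective p ∧ Flat p ∧ LocallyOfFinitePresentation p ∧ LocallyOfFiniteType q ∧ QuasiCompact q := by
  let R := ofEquivRel Γ.U Y Γ.pU s₁ t₁ hst @hmono (exists_rel_id Γ ψ ht hs)
    (exists_rel_inv Γ ψ ht hs @hmono) (exists_rel_comp Γ ψ ht hs @hmono)
  haveI : Mono R.j := mono_j_ofEquivRel Γ.U Y Γ.pU s₁ t₁ hst @hmono _ _ _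
  haveI : Flat R.s := ‹Flat s₁›
  haveI : LocallyOfFiniteType R.s := ‹LocallyOfFiniteType s₁›
  haveI : QuasiCompact R.s := ‹QuasiCompact s₁›
  haveI : LocallyOfFiniteType R.pU := ‹LocallyOfFiniteType Γ.pU›
  haveI : QuasiCompact R.pU := ‹QuasiCompact Γ.pU›
  haveI : LocallyOfFiniteType (R.j ≫ pullback.snd R.pU R.pU) := by
    rw [Grpd.GroupoidScheme.j, pullback.lift_snd]; infer_instance
  haveI : LocallyOfFiniteType R.j := locallyOfFiniteType_of_comp _ (pullback.snd R.pU R.pU)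
  haveI : CompactSpace R.U := QuasiCompact.compactSpace_of_compactSpace R.pU
  haveI : IsLocallyNoetherian R.U := LocallyOfFiniteType.isLocallyNoetherian R.pU
  haveI : CompactSpace R.R := QuasiCompact.compactSpace_of_compactSpace R.s
  haveI : IsLocallyNoetherian R.R := LocallyOfFiniteType.isLocallyNoetherian R.s
  haveI : IsNoetherian R.R := {}
  haveI : IsLocallyNoetherian (pullback R.pU R.pU) :=
    LocallyOfFiniteType.isLocallyNoetherian (pullback.snd R.pU R.pU)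
  haveI : LocallyQuasiFinite R.j := LocallyQuasiFinite.of_finite_preimage_singleton _ fun x =>
    (Set.subsingleton_singleton.preimage R.j.injective).finite
  obtain ⟨W, hW, hd, V, p, w, q, ⟨hcol⟩, h2, h3, -, h5, h6, h7, -, -, h10⟩ :=
    Groth.Agent.S4089.result S R
  have hW' : Γ.t ⁻¹ᵁ W = Γ.s ⁻¹ᵁ W := by
    rw [← ht, ← hs]
    exact congrArg (ψ ⁻¹ᵁ ·) hW
  have hpre : Γ.s ⁻¹ᵁ W = ψ ⁻¹ᵁ (R.s ⁻¹ᵁ W) := by rw [← hs]; rfl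
  let E : ((Γ.s ⁻¹ᵁ W : Γ.R.Opens) : Scheme.{u}) ⟶ ((R.s ⁻¹ᵁ W : R.R.Opens) : Scheme.{u}) :=
    (Γ.R.isoOfEq hpre).hom ≫ (ψ ∣_ (R.s ⁻¹ᵁ W))
  haveI : Flat (ψ ∣_ (R.s ⁻¹ᵁ W)) := IsZariskiLocalAtTarget.restrict ‹Flat ψ› _
  haveI : LocallyOfFinitePresentation (ψ ∣_ (R.s ⁻¹ᵁ W)) :=
    IsZariskiLocalAtTarget.restrict ‹LocallyOfFinitePresentation ψ› _
  haveI : Surjective (ψ ∣_ (R.s ⁻¹ᵁ W)) := IsZariskiLocalAtTarget.restrict ‹Surjective ψ› _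
  haveI : Epi E := inferInstance
  have hEs : E ≫ (R.s ∣_ W) = Γ.s ∣_ W := by
    rw [← cancel_mono W.ι]
    simp only [E, Category.assoc, morphismRestrict_ι, morphismRestrict_ι_assoc, Scheme.isoOfEq_hom_ι_assoc]
    exact congrArg ((Γ.s ⁻¹ᵁ W).ι ≫ ·) hs
  have hEt : E ≫ R.t.resLE W (R.s ⁻¹ᵁ W) hW.ge = Γ.t.resLE W (Γ.s ⁻¹ᵁ W) hW'.ge := by
    rw [← cancel_mono W.ι]
    simp only [E, Category.assoc, Scheme.Hom.resLE_comp_ι, morphismRestrict_ι_assoc, Scheme.isoOfEq_hom_ι_assoc]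
    exact congrArg ((Γ.s ⁻¹ᵁ W).ι ≫ ·) ht
  have w' : Γ.t.resLE W (Γ.s ⁻¹ᵁ W) hW'.ge ≫ p = (Γ.s ∣_ W) ≫ p :=
    (congrArg (· ≫ p) hEt).symm.trans ((Category.assoc _ _ _).trans
      ((congrArg (E ≫ ·) w).trans ((Category.assoc _ _ _).symm.trans (congrArg (· ≫ p) hEs))))
  refine ⟨W, hW', hd, V, p, w', q, ⟨?_⟩, h2, h3, (h10 inferInstance).2, h5, inferInstance, h7⟩
  have hc : ∀ c : Cofork (Γ.t.resLE W (Γ.s ⁻¹ᵁ W) hW'.ge) (Γ.s ∣_ W),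
      R.t.resLE W (R.s ⁻¹ᵁ W) hW.ge ≫ c.π = (R.s ∣_ W) ≫ c.π := fun c => by
    rw [← cancel_epi E]
    exact ((Category.assoc _ _ _).symm.trans ((congrArg (· ≫ c.π) hEt).trans c.condition)).trans
      ((congrArg (· ≫ c.π) hEs).symm.trans (Category.assoc _ _ _))
  exact Cofork.IsColimit.mk _ (fun c => Cofork.IsColimit.desc hcol c.π (hc c))
    (fun c => Cofork.IsColimit.π_desc' hcol c.π (hc c))
    (fun c m hm => Cofork.IsColimit.hom_ext hcol (hm.trans (Cofork.IsColimit.π_desc' hcol c.π (hc c)).symm))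

/-- Quotients of an invariant open subgroupoid are quotients of open subschemes. -/
theorem exists_quotient_of_openImmersion {Γ Γ₀ : Grpd.GroupoidScheme S} (j : Γ₀.U ⟶ Γ.U) (k : Γ₀.R ⟶ Γ.R)
    [IsOpenImmersion j] [IsOpenImmersion k] (hj : j ≫ Γ.pU = Γ₀.pU)
    (hks : k ≫ Γ.s = Γ₀.s ≫ j) (hkt : k ≫ Γ.t = Γ₀.t ≫ j)
    (hk : ∀ r, Γ.s r ∈ Set.range j ∨ Γ.t r ∈ Set.range j → r ∈ Set.range k) (hjd : DenseRange j)
    (W : Γ₀.U.Opens) (hW : Γ₀.t ⁻¹ᵁ W = Γ₀.s ⁻¹ᵁ W) (hWd : Dense (W : Set Γ₀.U))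
    {V : Scheme.{u}} (p : (W : Scheme.{u}) ⟶ V)
    (w : Γ₀.t.resLE W (Γ₀.s ⁻¹ᵁ W) hW.ge ≫ p = (Γ₀.s ∣_ W) ≫ p) (q : V ⟶ S)
    (hcol : IsColimit (Cofork.ofπ p w)) (hq : p ≫ q = W.ι ≫ Γ₀.pU)
    [Surjective p] [Flat p] [LocallyOfFinitePresentation p] :
    ∃ (U : Γ.U.Opens) (hU : Γ.t ⁻¹ᵁ U = Γ.s ⁻¹ᵁ U), Dense (U : Set Γ.U) ∧
      ∃ (p' : (U : Scheme.{u}) ⟶ V)
        (w' : Γ.t.resLE U (Γ.s ⁻¹ᵁ U) hU.ge ≫ p' = (Γ.s ∣_ U) ≫ p'),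
        Nonempty (IsColimit (Cofork.ofπ p' w')) ∧ p' ≫ q = U.ι ≫ Γ.pU ∧
        Surjective p' ∧ Flat p' ∧ LocallyOfFinitePresentation p' := by
  let U : Γ.U.Opens := j ''ᵁ W
  have hmem : ∀ x, j x ∈ U ↔ x ∈ W := fun x =>
    ⟨fun ⟨y, hy, e⟩ => j.isOpenEmbedding.injective e ▸ hy, fun h => ⟨x, h, rfl⟩⟩
  have hkW : ∀ r₀, Γ.s (k r₀) ∈ U ↔ r₀ ∈ Γ₀.s ⁻¹ᵁ W := fun r₀ => by
    rw [← Scheme.Hom.comp_apply, hks]
    exact hmem _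
  have hkW' : ∀ r₀, Γ.t (k r₀) ∈ U ↔ r₀ ∈ Γ₀.s ⁻¹ᵁ W := fun r₀ => by
    rw [← Scheme.Hom.comp_apply, hkt, ← hW]
    exact hmem _
  have hUle : ∀ x, x ∈ U → x ∈ Set.range j := by rintro _ ⟨x, -, rfl⟩; exact ⟨x, rfl⟩
  have hU : Γ.t ⁻¹ᵁ U = Γ.s ⁻¹ᵁ U := by
    ext r
    constructor <;> intro h
    · obtain ⟨r₀, rfl⟩ := hk r (Or.inr (hUle _ h))
      exact (hkW r₀).2 ((hkW' r₀).1 h)
    · obtain ⟨r₀, rfl⟩ := hk r (Or.inl (hUle _ h))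
      exact (hkW' r₀).2 ((hkW r₀).1 h)
  let eU := j.isoImage W
  have heU : eU.hom ≫ U.ι = W.ι ≫ j := j.isoImage_hom_ι W
  have hL : Set.range ((Γ₀.s ⁻¹ᵁ W).ι ≫ k) ⊆ Set.range (Γ.s ⁻¹ᵁ U).ι := by
    rintro _ ⟨r, rfl⟩
    rw [Scheme.Opens.range_ι]
    exact (hkW r.1).2 r.2
  let L := IsOpenImmersion.lift (Γ.s ⁻¹ᵁ U).ι _ hL
  have hLι : L ≫ (Γ.s ⁻¹ᵁ U).ι = (Γ₀.s ⁻¹ᵁ W).ι ≫ k := IsOpenImmersion.lift_fac _ _ _
  haveI : IsOpenImmersion L := by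
    haveI : IsOpenImmersion (L ≫ (Γ.s ⁻¹ᵁ U).ι) := by rw [hLι]; infer_instance
    exact IsOpenImmersion.of_comp L (Γ.s ⁻¹ᵁ U).ι
  haveI : Surjective L := ⟨fun r => by
    obtain ⟨r₀, hr₀⟩ := hk r.1 (Or.inl (hUle _ r.2))
    have hr : Γ.s (k r₀) ∈ U := by rw [hr₀]; exact r.2
    refine ⟨⟨r₀, (hkW r₀).1 hr⟩, (Γ.s ⁻¹ᵁ U).ι.isOpenEmbedding.injective ?_⟩
    rw [← Scheme.Hom.comp_apply, hLι]
    exact hr₀⟩
  haveI : IsIso L := by rw [isIso_iff_isOpenImmersion_and_surjective]; exact ⟨inferInstance, inferInstance⟩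
  have hLt : L ≫ Γ.t.resLE U (Γ.s ⁻¹ᵁ U) hU.ge = Γ₀.t.resLE W (Γ₀.s ⁻¹ᵁ W) hW.ge ≫ eU.hom := by
    rw [← cancel_mono U.ι]
    simp only [Category.assoc, Scheme.Hom.resLE_comp_ι, reassoc_of% hLι, hkt, heU, Scheme.Hom.resLE_comp_ι_assoc]
  have hLs : L ≫ (Γ.s ∣_ U) = (Γ₀.s ∣_ W) ≫ eU.hom := by
    rw [← cancel_mono U.ι]
    simp only [Category.assoc, morphismRestrict_ι, reassoc_of% hLι, hks, heU, morphismRestrict_ι_assoc]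
  have w' : Γ.t.resLE U (Γ.s ⁻¹ᵁ U) hU.ge ≫ eU.inv ≫ p = (Γ.s ∣_ U) ≫ eU.inv ≫ p := by
    rw [← cancel_epi L, reassoc_of% hLt, reassoc_of% hLs]
    simpa using w
  refine ⟨U, hU, ?_, eU.inv ≫ p, w', ⟨?_⟩, ?_, inferInstance, inferInstance, inferInstance⟩
  · exact DenseRange.dense_image hjd j.continuous hWd
  · have hc : ∀ c : Cofork (Γ.t.resLE U (Γ.s ⁻¹ᵁ U) hU.ge) (Γ.s ∣_ U),
        Γ₀.t.resLE W (Γ₀.s ⁻¹ᵁ W) hW.ge ≫ eU.hom ≫ c.π = (Γ₀.s ∣_ W) ≫ eU.hom ≫ c.π := fun c => by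
      rw [← reassoc_of% hLt, ← reassoc_of% hLs, c.condition]
    exact Cofork.IsColimit.mk _ (fun c => Cofork.IsColimit.desc hcol (eU.hom ≫ c.π) (hc c))
      (fun c => by
        show (eU.inv ≫ p) ≫ _ = _
        rw [Category.assoc, show p ≫ _ = _ from Cofork.IsColimit.π_desc' hcol _ (hc c)]
        exact Iso.inv_hom_id_assoc eU c.π)
      (fun c m hm' => Cofork.IsColimit.hom_ext hcol (by
        refine Eq.trans ?_ (Cofork.IsColimit.π_desc' hcol _ (hc c)).symm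
        rw [← show (eU.inv ≫ p) ≫ m = c.π from hm', Category.assoc, Iso.hom_inv_id_assoc]
        rfl))
  · rw [Category.assoc, hq, Iso.inv_comp_eq, ← Category.assoc, heU, Category.assoc, hj]

end GrothLib.FlatStab13
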