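import Groth.Agent.Lib.QSecGen13.ActGrpd
import Groth.Agent.Lib.GrpSchField.Points
import Mathlib.AlgebraicGeometry.Restrict

/-!
# The stabilizer of an action: conjugation, and restriction to saturated open sets
-/

set_option autoImplicit false
set_option linter.all false
set_option backward.isDefEq.respectTransparency false

universe u

open CategoryTheory CategoryTheory.Limits MonoidalCategory CartesianMonoidalCategory MonObj GrpObj
open AlgebraicGeometry

noncomputable section

namespace GrothLib.FlatStab13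

open GrothLib.GrpSchField (act_one act_mul hom_ext_points₂ lift_fst_snd_comp)

variable {S : Scheme.{u}} {G X : Over S} [GrpObj G] (a : AlgGrp.Action G X)

local notation "δ" => lift (𝟙 X) (𝟙 X)
local notation "d" => lift a.act (snd G X)

theorem point_d {T : Over S} (g : T ⟶ G) (x : T ⟶ X) :
    lift g x ≫ d = lift (lift g x ≫ a.act) x := by
  simp only [comp_lift, lift_snd]

theorem fst_stab_act : pullback.fst d δ ≫ a.act = pullback.snd d δ := by
  have := congrArg (· ≫ fst X X) (pullback.condition : pullback.fst d δ ≫ d = pullback.snd d δ ≫ δ)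
  simpa using this

theorem fst_stab_snd : pullback.fst d δ ≫ snd G X = pullback.snd d δ := by
  have := congrArg (· ≫ snd X X) (pullback.condition : pullback.fst d δ ≫ d = pullback.snd d δ ≫ δ)
  simpa using this

/-- The group coordinate of the stabilizer. -/
def elt : pullback d δ ⟶ G := pullback.fst d δ ≫ fst G X

theorem elt_fix {T : Over S} (z : T ⟶ pullback d δ) :
    lift (z ≫ elt a) (z ≫ pullback.snd d δ) ≫ a.act = z ≫ pullback.snd d δ := by
  have e : lift (z ≫ elt a) (z ≫ pullback.snd d δ) = z ≫ pullback.fst d δ := by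
    rw [← fst_stab_snd a, elt, ← Category.assoc, ← Category.assoc]
    exact lift_fst_snd_comp _
  rw [e, Category.assoc, fst_stab_act]

theorem stab_ext {T : Over S} (z z' : T ⟶ pullback d δ) (h₁ : z ≫ elt a = z' ≫ elt a)
    (h₂ : z ≫ pullback.snd d δ = z' ≫ pullback.snd d δ) : z = z' := by
  refine pullback.hom_ext (CartesianMonoidalCategory.hom_ext _ _ ?_ ?_) h₂
  · simpa [elt] using h₁
  · simp only [Category.assoc, fst_stab_snd]
    exact h₂

theorem stab_exists {T : Over S} (h : T ⟶ G) (x : T ⟶ X) (e : lift h x ≫ a.act = x) :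
    ∃ z : T ⟶ pullback d δ, z ≫ elt a = h ∧ z ≫ pullback.snd d δ = x := by
  refine ⟨pullback.lift (lift h x) x ?_, ?_, pullback.lift_snd _ _ _⟩
  · rw [point_d, e, comp_lift, Category.comp_id]
  · rw [elt, ← Category.assoc, pullback.lift_fst, lift_fst]

/-- Base change of the stabilizer along the projection. -/
theorem isPullback_stab_snd :
    IsPullback (snd G (pullback d δ)) (G ◁ pullback.snd d δ) (pullback.snd d δ) (snd G X) := by
  refine ⟨⟨by simp⟩, ⟨PullbackCone.IsLimit.mk _ (fun c => lift (c.snd ≫ fst G X) c.fst) (fun c => ?_)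
    (fun c => ?_) fun c m h₁ h₂ => ?_⟩⟩
  · simp
  · rw [lift_whiskerLeft, c.condition]
    exact lift_fst_snd_comp c.snd
  · refine CartesianMonoidalCategory.hom_ext _ _ ?_ ?_
    · rw [lift_fst, ← h₂, Category.assoc, whiskerLeft_fst]
    · rw [lift_snd, h₁]

/-- Products with `G` commute with base change along the projection. -/
theorem isPullback_whiskerLeft_snd {Z : Over S} (j : Z ⟶ X) :
    IsPullback (G ◁ j) (snd G Z) (snd G X) j := by
  refine ⟨⟨whiskerLeft_snd G j⟩, ⟨PullbackCone.IsLimit.mk _ (fun c => lift (c.fst ≫ fst G X) c.snd)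
    (fun c => ?_) (fun c => ?_) fun c m h₁ h₂ => ?_⟩⟩
  · rw [lift_whiskerLeft, ← c.condition]
    exact lift_fst_snd_comp c.fst
  · simp
  · refine CartesianMonoidalCategory.hom_ext _ _ ?_ ?_
    · rw [lift_fst, ← h₁, Category.assoc, whiskerLeft_fst]
    · rw [lift_snd, h₂]

/-- Conjugation identifies the base changes of the stabilizer along projection and action. -/
theorem exists_isPullback_stab_act :
    ∃ b : G ⊗ pullback d δ ⟶ pullback d δ,
      IsPullback b (G ◁ pullback.snd d δ) (pullback.snd d δ) a.act := by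
  let σ := pullback.snd d δ
  obtain ⟨b, hb₁, hb₂⟩ := stab_exists a
    (fst G _ * (snd G (pullback d δ) ≫ elt a) * (fst G _)⁻¹) ((G ◁ σ) ≫ a.act) (by
      have e : lift (fst G (pullback d δ)) (snd G _ ≫ σ) = G ◁ σ := by
        apply CartesianMonoidalCategory.hom_ext <;> simp
      rw [← e, ← act_mul, inv_mul_cancel_right, act_mul]
      simp only [σ, elt_fix])
  have hb : ∀ {T : Over S} (g : T ⟶ G) (z : T ⟶ pullback d δ),
      lift g z ≫ b ≫ elt a = g * (z ≫ elt a) * g⁻¹ := fun g z => by
    rw [hb₁]
    simp only [MonObj.comp_mul, GrpObj.comp_inv, lift_fst, lift_snd_assoc]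
  have hc : ∀ c : PullbackCone σ a.act, ∃ l : c.pt ⟶ G ⊗ pullback d δ,
      l ≫ b = c.fst ∧ l ≫ (G ◁ σ) = c.snd := by
    intro c
    let g := c.snd ≫ fst G X
    let x := c.snd ≫ snd G X
    let h := c.fst ≫ elt a
    have hr : lift g x = c.snd := lift_fst_snd_comp _
    have hσ : c.fst ≫ σ = lift g x ≫ a.act := by rw [hr]; exact c.condition
    have hfix : lift (g⁻¹ * h * g) x ≫ a.act = x := by
      rw [act_mul, act_mul, ← hσ, elt_fix, hσ, ← act_mul, inv_mul_cancel, act_one]
    obtain ⟨z, hz₁, hz₂⟩ := stab_exists a _ _ hfix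
    refine ⟨lift g z, stab_ext a _ _ ?_ ?_, ?_⟩
    · rw [Category.assoc, hb, hz₁]
      group
      rfl
    · rw [Category.assoc, hb₂, lift_whiskerLeft_assoc, hz₂, hσ]
    · rw [lift_whiskerLeft, hz₂, hr]
  choose l hl₁ hl₂ using hc
  refine ⟨b, ⟨hb₂⟩, ⟨PullbackCone.IsLimit.mk _ l hl₁ hl₂ fun c m h₁ h₂ => ?_⟩⟩
  have e₁ : m ≫ fst G _ = l c ≫ fst G _ := by
    have := congrArg (· ≫ fst G X) (h₂.trans (hl₂ c).symm)
    simpa using this
  refine CartesianMonoidalCategory.hom_ext _ _ e₁ (stab_ext a _ _ ?_ ?_)
  · have := congrArg (· ≫ elt a) (h₁.trans (hl₁ c).symm)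
    simp only [Category.assoc, hb₁, MonObj.comp_mul, GrpObj.comp_inv, e₁, mul_left_inj, mul_right_inj] at this
    simpa using this
  · have := congrArg (· ≫ snd G X) (h₂.trans (hl₂ c).symm)
    simpa using this

section Open

variable (U : X.left.Opens) (hU : a.act.left ⁻¹ᵁ U = (snd G X).left ⁻¹ᵁ U)

/-- An open subscheme over the base. -/
def openObj : Over S := Over.mk (U.ι ≫ X.hom)

/-- Its inclusion. -/
def openInc : openObj U ⟶ X := Over.homMk U.ι rfl

instance : Mono (openInc U) := by
  haveI : Mono (openInc U).left := inferInstanceAs (Mono U.ι)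
  exact (Over.forget S).mono_of_mono_map ‹_›

include hU in
theorem range_act_subset :
    Set.range ((G ◁ openInc U) ≫ a.act).left ⊆ Set.range U.ι := by
  rintro _ ⟨r, rfl⟩
  rw [Scheme.Opens.range_ι]
  have h : (G ◁ openInc U).left r ∈ (snd G X).left ⁻¹ᵁ U := by
    show (snd G X).left ((G ◁ openInc U).left r) ∈ U
    rw [← Scheme.Hom.comp_apply, ← Over.comp_left, whiskerLeft_snd, Over.comp_left, Scheme.Hom.comp_apply]
    exact Subtype.prop _
  rw [← hU] at h
  rw [Over.comp_left, Scheme.Hom.comp_apply]
  exact h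

/-- The action morphism on a saturated open set. -/
def openActMor : G ⊗ openObj U ⟶ openObj U :=
  Over.homMk (IsOpenImmersion.lift U.ι _ (range_act_subset a U hU)) (by
    show _ ≫ U.ι ≫ X.hom = _
    rw [← Category.assoc, IsOpenImmersion.lift_fac]
    exact Over.w ((G ◁ openInc U) ≫ a.act))

theorem openActMor_inc : openActMor a U hU ≫ openInc U = (G ◁ openInc U) ≫ a.act :=
  Over.OverMorphism.ext (IsOpenImmersion.lift_fac _ _ _)

/-- The action on a saturated open set. -/
def openAct : AlgGrp.Action G (openObj U) where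
  act := openActMor a U hU
  one_act := by
    rw [← cancel_mono (openInc U), Category.assoc, openActMor_inc, ← whisker_exchange_assoc, a.one_act,
      leftUnitor_naturality]
  mul_act := by
    rw [← cancel_mono (openInc U)]
    simp only [Category.assoc, openActMor_inc]
    rw [← whisker_exchange_assoc, a.mul_act, ← whiskerLeft_comp_assoc, openActMor_inc,
      whiskerLeft_comp_assoc, associator_naturality_right_assoc]

theorem openAct_inc : (openAct a U hU).act ≫ openInc U = (G ◁ openInc U) ≫ a.act :=
  openActMor_inc a U hU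

set_option quotPrecheck false in
local notation "d'" => lift (openAct a U hU).act (snd G (openObj U))
local notation "δ'" => lift (𝟙 (openObj U)) (𝟙 (openObj U))

/-- The stabilizer of the restricted action is the restriction of the stabilizer. -/
theorem exists_isPullback_stab_open :
    ∃ q : pullback d' δ' ⟶ pullback d δ,
      IsPullback q (pullback.snd d' δ') (pullback.snd d δ) (openInc U) := by
  let j := openInc U
  let A := openAct a U hU
  obtain ⟨q, hq₁, hq₂⟩ := stab_exists a (elt A) (pullback.snd d' δ' ≫ j) (by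
    have h := elt_fix A (𝟙 _)
    simp only [Category.id_comp] at h
    conv_rhs => rw [← h, Category.assoc, openAct_inc, lift_whiskerLeft_assoc])
  have hc : ∀ c : PullbackCone (pullback.snd d δ) j, ∃ l : c.pt ⟶ pullback d' δ',
      l ≫ q = c.fst ∧ l ≫ pullback.snd d' δ' = c.snd := by
    intro c
    obtain ⟨z, hz₁, hz₂⟩ := stab_exists A (c.fst ≫ elt a) c.snd (by
      rw [← cancel_mono j, Category.assoc, openAct_inc, lift_whiskerLeft_assoc]
      simp only [j, ← c.condition, elt_fix])
    refine ⟨z, stab_ext a _ _ ?_ ?_, hz₂⟩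
    · rw [Category.assoc, hq₁, hz₁]
    · rw [Category.assoc, hq₂, reassoc_of% hz₂, c.condition]
  choose l hl₁ hl₂ using hc
  refine ⟨q, ⟨hq₂⟩, ⟨PullbackCone.IsLimit.mk _ l hl₁ hl₂ fun c m h₁ h₂ => ?_⟩⟩
  refine stab_ext A _ _ ?_ (h₂.trans (hl₂ c).symm)
  have := congrArg (· ≫ elt a) (h₁.trans (hl₁ c).symm)
  simpa only [Category.assoc, hq₁] using this

end Open

end GrothLib.FlatStab13
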